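import Groth.Agent.ParaF.K588.QBase
import Mathlib.RingTheory.RingHom.Smooth
import Mathlib.RingTheory.RingHom.EssFiniteType
import Mathlib.RingTheory.RingHom.Flat

/-!
Formally smooth ring homomorphisms essentially of finite type, and algebras over a product `R ⊗ C` of two algebras
over a field: base change in `C`, localization in all variables.
-/

set_option autoImplicit false
universe u

open TensorProduct

namespace K588.QGood

/-- formally smooth and essentially of finite type. -/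
structure Good {A B : Type u} [CommRing A] [CommRing B] (φ : A →+* B) : Prop where
  fs : φ.FormallySmooth
  ft : φ.EssFiniteType

namespace Good

variable {A B C : Type u} [CommRing A] [CommRing B] [CommRing C]

theorem iff_algebra [Algebra A B] : Good (algebraMap A B) ↔
    Algebra.FormallySmooth A B ∧ Algebra.EssFiniteType A B := by
  constructor
  · rintro ⟨h1, h2⟩
    exact ⟨RingHom.formallySmooth_algebraMap.1 h1, RingHom.essFiniteType_algebraMap.1 h2⟩
  · rintro ⟨h1, h2⟩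
    exact ⟨RingHom.formallySmooth_algebraMap.2 h1, RingHom.essFiniteType_algebraMap.2 h2⟩

theorem comp {φ : A →+* B} {ψ : B →+* C} (hφ : Good φ) (hψ : Good ψ) : Good (ψ.comp φ) :=
  ⟨hφ.fs.comp hψ.fs, hφ.ft.comp hψ.ft⟩

theorem of_isLocalization [Algebra A B] (M : Submonoid A) [IsLocalization M B] :
    Good (algebraMap A B) :=
  iff_algebra.2 ⟨Algebra.FormallySmooth.of_isLocalization M, Algebra.EssFiniteType.of_isLocalization B M⟩

theorem of_bijective {φ : A →+* B} (h : Function.Bijective φ) : Good φ :=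
  ⟨.of_bijective h, (RingHom.FiniteType.of_surjective φ h.2).essFiniteType⟩

/-- cancellation of an epimorphism. -/
theorem of_epi {φ : A →+* B} {χ : B →+* C} (h : Good (χ.comp φ))
    (hφ : ∀ (T : Type u) [CommRing T] (f g : B →+* T), f.comp φ = g.comp φ → f = g) : Good χ := by
  algebraize [φ, χ, χ.comp φ]
  have hu : Algebra.FormallyUnramified A B := by
    rw [Algebra.FormallyUnramified.iff_comp_injective]
    intro T _ _ I _ f g _
    have : f.toRingHom = g.toRingHom := hφ T _ _ (by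
      ext a
      exact (f.commutes a).trans (g.commutes a).symm)
    exact AlgHom.ext fun x => RingHom.congr_fun this x
  have h1 : Algebra.FormallySmooth A C := h.fs
  have h2 : Algebra.EssFiniteType A C := h.ft
  refine ⟨?_, ?_⟩
  · exact Algebra.FormallySmooth.of_restrictScalars (R := A) (A := B) (B := C)
  · exact Algebra.EssFiniteType.of_comp A B C

theorem of_isPushout (A B A₁ B₁ : Type u) [CommRing A] [CommRing B] [CommRing A₁] [CommRing B₁]
    [Algebra A B] [Algebra A A₁] [Algebra A₁ B₁] [Algebra B B₁] [Algebra A B₁]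
    [IsScalarTower A B B₁] [IsScalarTower A A₁ B₁] [Algebra.IsPushout A A₁ B B₁]
    (h : Good (algebraMap A B)) : Good (algebraMap A₁ B₁) := by
  rw [iff_algebra] at h ⊢
  obtain ⟨h1, h2⟩ := h
  exact ⟨QBase.formallySmooth_of_isPushout A B A₁ B₁, QBase.essFiniteType_of_isPushout A B A₁ B₁⟩

theorem flat [IsNoetherianRing A] {φ : A →+* B} (h : Good φ) : φ.Flat := by
  algebraize [φ]
  have h1 : Algebra.FormallySmooth A B := h.fs
  have h2 : Algebra.EssFiniteType A B := h.ft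
  exact QBase.flat_of_formallySmooth A B

theorem isNoetherianRing [IsNoetherianRing A] {φ : A →+* B} (h : Good φ) : IsNoetherianRing B := by
  algebraize [φ]
  have h2 : Algebra.EssFiniteType A B := h.ft
  exact Algebra.EssFiniteType.isNoetherianRing A B

end Good

section BaseChange

attribute [local instance] Algebra.TensorProduct.rightAlgebra

variable (k R C E C₁ E₁ : Type u) [Field k] [CommRing R] [CommRing C] [CommRing E] [CommRing C₁]
  [CommRing E₁] [Algebra k R] [Algebra k C] [Algebra k C₁] [Algebra C C₁] [IsScalarTower k C C₁]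
  [Algebra C E] [Algebra E E₁] [Algebra C₁ E₁] [Algebra C E₁] [IsScalarTower C E E₁]
  [IsScalarTower C C₁ E₁]

/-- base change in the second variable. -/
theorem exists_bc [Algebra.IsPushout C C₁ E E₁] (φ : R ⊗[k] C →+* E) (hφ : Good φ)
    (hC : ∀ c, algebraMap C E c = φ (1 ⊗ₜ c)) :
    ∃ φ₁ : R ⊗[k] C₁ →+* E₁, Good φ₁ ∧ (∀ r, φ₁ (r ⊗ₜ 1) = algebraMap E E₁ (φ (r ⊗ₜ 1))) ∧
      ∀ c, φ₁ (1 ⊗ₜ c) = algebraMap C₁ E₁ c := by
  algebraize [φ]
  have hCE : IsScalarTower C (R ⊗[k] C) E := .of_algebraMap_eq hC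
  -- the map of products
  let θ : R ⊗[k] C →ₐ[R] R ⊗[k] C₁ := Algebra.TensorProduct.map (AlgHom.id R R) (IsScalarTower.toAlgHom k C C₁)
  let _ : Algebra (R ⊗[k] C) (R ⊗[k] C₁) := θ.toRingHom.toAlgebra
  have hθ : ∀ x, algebraMap (R ⊗[k] C) (R ⊗[k] C₁) x = θ x := fun _ => rfl
  -- the algebra structures over `k`
  let _ : Algebra k E₁ := ((algebraMap C₁ E₁).comp (algebraMap k C₁)).toAlgebra
  have t1 : IsScalarTower k C₁ E₁ := .of_algebraMap_eq fun _ => rfl
  let _ : Algebra R E₁ := ((algebraMap E E₁).comp (φ.comp Algebra.TensorProduct.includeLeftRingHom)).toAlgebra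
  have hRE₁ : ∀ r, algebraMap R E₁ r = algebraMap E E₁ (φ (r ⊗ₜ 1)) := fun _ => rfl
  have t2 : IsScalarTower k R E₁ := .of_algebraMap_eq fun a => by
    rw [hRE₁]
    have h1 : (algebraMap k R a ⊗ₜ[k] (1 : C)) = 1 ⊗ₜ algebraMap k C a := by
      rw [Algebra.algebraMap_eq_smul_one, Algebra.algebraMap_eq_smul_one, TensorProduct.smul_tmul]
    rw [h1, ← hC, ← IsScalarTower.algebraMap_apply, IsScalarTower.algebraMap_apply C C₁ E₁,
      ← IsScalarTower.algebraMap_apply k C C₁]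
    rfl
  let φ₁ : R ⊗[k] C₁ →ₐ[k] E₁ := Algebra.TensorProduct.lift (IsScalarTower.toAlgHom k R E₁)
    (IsScalarTower.toAlgHom k C₁ E₁) (fun _ _ => mul_comm _ _)
  have h1 : ∀ r c, φ₁ (r ⊗ₜ c) = algebraMap E E₁ (φ (r ⊗ₜ 1)) * algebraMap C₁ E₁ c := fun r c => by
    exact Algebra.TensorProduct.lift_tmul _ _ _ r c
  refine ⟨φ₁.toRingHom, ?_, ?_, ?_⟩
  · let _ : Algebra (R ⊗[k] C₁) E₁ := φ₁.toRingHom.toAlgebra
    have hφ₁ : ∀ x, algebraMap (R ⊗[k] C₁) E₁ x = φ₁ x := fun _ => rfl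
    let _ : Algebra (R ⊗[k] C) E₁ := ((algebraMap E E₁).comp φ).toAlgebra
    have s1 : IsScalarTower (R ⊗[k] C) E E₁ := .of_algebraMap_eq fun _ => rfl
    have s2 : IsScalarTower (R ⊗[k] C) (R ⊗[k] C₁) E₁ := .of_algebraMap_eq' <| by
      apply RingHom.ext
      intro x
      rw [RingHom.comp_apply, hθ, hφ₁]
      change algebraMap E E₁ (φ x) = _
      induction x with
      | zero => simp
      | add x y hx hy => rw [map_add, map_add, hx, hy, map_add, map_add]
      | tmul r c =>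
        change _ = φ₁ (r ⊗ₜ algebraMap C C₁ c)
        rw [h1, ← IsScalarTower.algebraMap_apply C C₁ E₁, IsScalarTower.algebraMap_apply C E E₁,
          hC, ← map_mul, ← map_mul, Algebra.TensorProduct.tmul_mul_tmul, mul_one, one_mul]
    let _ : Algebra C (R ⊗[k] C₁) := ((algebraMap C₁ (R ⊗[k] C₁)).comp (algebraMap C C₁)).toAlgebra
    have s3 : IsScalarTower C (R ⊗[k] C) (R ⊗[k] C₁) := .of_algebraMap_eq fun c => by
      rw [hθ]
      change algebraMap C (R ⊗[k] C₁) c = θ (1 ⊗ₜ c)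
      rfl
    have s4 : IsScalarTower C C₁ (R ⊗[k] C₁) := .of_algebraMap_eq fun c => rfl
    have s5 : IsScalarTower C₁ (R ⊗[k] C₁) E₁ := .of_algebraMap_eq fun c => by
      change _ = φ₁ (1 ⊗ₜ c)
      rw [h1, Algebra.TensorProduct.one_def.symm, map_one, map_one, one_mul]
    have s6 : IsScalarTower C (R ⊗[k] C) E₁ := .of_algebraMap_eq fun c => by
      rw [IsScalarTower.algebraMap_apply (R ⊗[k] C) E E₁, ← IsScalarTower.algebraMap_apply C _ E,
        ← IsScalarTower.algebraMap_apply]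
    have p1 : Algebra.IsPushout C (R ⊗[k] C) C₁ (R ⊗[k] C₁) := by
      have q1 : Algebra.IsPushout k C R (R ⊗[k] C) := inferInstance
      have q2 : Algebra.IsPushout k C₁ R (R ⊗[k] C₁) := inferInstance
      have s7 : IsScalarTower R (R ⊗[k] C) (R ⊗[k] C₁) := .of_algebraMap_eq fun r => by
        rw [hθ]; exact (θ.commutes r).symm
      have s8 : IsScalarTower k (R ⊗[k] C) (R ⊗[k] C₁) := .of_algebraMap_eq fun r => by
        rw [hθ, IsScalarTower.algebraMap_apply k R (R ⊗[k] C),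
          IsScalarTower.algebraMap_apply k R (R ⊗[k] C₁)]
        exact (θ.commutes _).symm
      exact ((Algebra.IsPushout.comp_iff k C R (R ⊗[k] C) (T := C₁) (T' := R ⊗[k] C₁)).1 q2).symm
    have s9 : IsScalarTower C (R ⊗[k] C₁) E₁ := .of_algebraMap_eq fun c => by
      rw [IsScalarTower.algebraMap_apply C C₁ E₁, IsScalarTower.algebraMap_apply C₁ (R ⊗[k] C₁) E₁]
      rfl
    have p2 : Algebra.IsPushout C E C₁ E₁ := Algebra.IsPushout.symm inferInstance
    have p3 : Algebra.IsPushout (R ⊗[k] C) E (R ⊗[k] C₁) E₁ :=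
      (Algebra.IsPushout.comp_iff C (R ⊗[k] C) C₁ (R ⊗[k] C₁) (T := E) (T' := E₁)).1 p2
    have p4 : Algebra.IsPushout (R ⊗[k] C) (R ⊗[k] C₁) E E₁ := p3.symm
    exact Good.of_isPushout (R ⊗[k] C) E (R ⊗[k] C₁) E₁ hφ
  · intro r
    change φ₁ (r ⊗ₜ 1) = _
    rw [h1, map_one, mul_one]
  · intro c
    change φ₁ (1 ⊗ₜ c) = _
    rw [h1, Algebra.TensorProduct.one_def.symm, map_one, map_one, one_mul]

end BaseChange

section Loc

variable (k k' R N E₂ : Type u) [Field k] [Field k'] [CommRing R] [CommRing N]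
  [CommRing E₂] [Algebra k k'] [Algebra k R] [Algebra k N] [Algebra k' N]
  [IsScalarTower k k' N]

/-- the ring `k' ⊗ R` over `E₂`. -/
noncomputable def left (ψ : R ⊗[k] N →+* E₂) : k' ⊗[k] R →+* E₂ :=
  ψ.comp ((Algebra.TensorProduct.map (AlgHom.id k R) (IsScalarTower.toAlgHom k k' N)).toRingHom.comp
    (Algebra.TensorProduct.comm k k' R).toRingHom)

theorem left_tmul (ψ : R ⊗[k] N →+* E₂) (a : k') (r : R) :
    left k k' R N E₂ ψ (a ⊗ₜ r) = ψ (r ⊗ₜ algebraMap k' N a) := rfl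

/-- the ring `N` over `E₂`. -/
noncomputable def right (ψ : R ⊗[k] N →+* E₂) : N →+* E₂ :=
  ψ.comp (Algebra.TensorProduct.includeRight : N →ₐ[k] R ⊗[k] N).toRingHom

theorem right_apply (ψ : R ⊗[k] N →+* E₂) (x : N) : right k R N E₂ ψ x = ψ (1 ⊗ₜ x) := rfl

variable [IsLocalRing E₂]

/-- localization in all variables, together with the change of the ground field. -/
theorem exists_loc (ψ : R ⊗[k] N →+* E₂) (hψ : Good ψ) (R' N' : Type u) [CommRing R'] [CommRing N']
    [IsLocalRing R'] [IsLocalRing N']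
    [Algebra (k' ⊗[k] R) R'] [Algebra k' R'] [IsScalarTower k' (k' ⊗[k] R) R']
    [Algebra N N'] [Algebra k' N'] [IsScalarTower k' N N'] (P₁ : Ideal (k' ⊗[k] R)) [P₁.IsPrime]
    (P₂ : Ideal N) [P₂.IsPrime] [IsLocalization.AtPrime R' P₁] [IsLocalization.AtPrime N' P₂]
    (hP₁ : P₁ = (IsLocalRing.maximalIdeal E₂).comap (left k k' R N E₂ ψ))
    (hP₂ : P₂ = (IsLocalRing.maximalIdeal E₂).comap (right k R N E₂ ψ)) :
    ∃ φ₂ : R' ⊗[k'] N' →+* E₂, Good φ₂ ∧
      IsLocalHom (φ₂.comp (Algebra.TensorProduct.includeLeftRingHom)) ∧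
      IsLocalHom (φ₂.comp (Algebra.TensorProduct.includeRight : N' →ₐ[k'] R' ⊗[k'] N').toRingHom) ∧
      (∀ x, φ₂ (algebraMap (k' ⊗[k] R) R' x ⊗ₜ 1) = left k k' R N E₂ ψ x) ∧
      ∀ x, φ₂ (1 ⊗ₜ algebraMap N N' x) = ψ (1 ⊗ₜ x) := by
  have m1 : ∀ y, y ∉ P₁ ↔ IsUnit (left k k' R N E₂ ψ y) := fun y => by
    rw [hP₁, Ideal.mem_comap, IsLocalRing.mem_maximalIdeal, mem_nonunits_iff, not_not]
  have m2 : ∀ y, y ∉ P₂ ↔ IsUnit (right k R N E₂ ψ y) := fun y => by
    rw [hP₂, Ideal.mem_comap, IsLocalRing.mem_maximalIdeal, mem_nonunits_iff, not_not]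
  have u1 : ∀ y : P₁.primeCompl, IsUnit (left k k' R N E₂ ψ y) := fun y => (m1 y).1 y.2
  have u2 : ∀ y : P₂.primeCompl, IsUnit (right k R N E₂ ψ y) := fun y => (m2 y).1 y.2
  let fR : R' →+* E₂ := IsLocalization.lift (M := P₁.primeCompl) (g := left k k' R N E₂ ψ) u1
  let fN : N' →+* E₂ := IsLocalization.lift (M := P₂.primeCompl) (g := right k R N E₂ ψ) u2
  have hfR : ∀ x, fR (algebraMap _ _ x) = left k k' R N E₂ ψ x := fun x => IsLocalization.lift_eq u1 x
  have hfN : ∀ x, fN (algebraMap _ _ x) = right k R N E₂ ψ x := fun x => IsLocalization.lift_eq u2 x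
  let _ : Algebra k' E₂ := ((right k R N E₂ ψ).comp (algebraMap k' N)).toAlgebra
  have hk' : ∀ a, algebraMap k' E₂ a = ψ (1 ⊗ₜ algebraMap k' N a) := fun _ => rfl
  have cR : ∀ a, fR (algebraMap k' R' a) = algebraMap k' E₂ a := fun a => by
    rw [IsScalarTower.algebraMap_apply k' (k' ⊗[k] R) R', hfR, hk',
      Algebra.TensorProduct.algebraMap_apply, left_tmul]
    rfl
  have cN : ∀ a, fN (algebraMap k' N' a) = algebraMap k' E₂ a := fun a => by
    rw [IsScalarTower.algebraMap_apply k' N N', hfN]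
    rfl
  let fR' : R' →ₐ[k'] E₂ := AlgHom.mk fR cR
  let fN' : N' →ₐ[k'] E₂ := AlgHom.mk fN cN
  let φ₂ : R' ⊗[k'] N' →ₐ[k'] E₂ := Algebra.TensorProduct.lift fR' fN' (fun _ _ => mul_comm _ _)
  have h2 : ∀ r n, φ₂ (r ⊗ₜ n) = fR r * fN n := fun r n =>
    Algebra.TensorProduct.lift_tmul fR' fN' (fun _ _ => mul_comm _ _) r n
  have h2l : ∀ r, φ₂ (r ⊗ₜ 1) = fR r := fun r => by rw [h2, map_one, mul_one]
  have h2r : ∀ n, φ₂ (1 ⊗ₜ n) = fN n := fun n => by rw [h2, map_one, one_mul]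
  refine ⟨φ₂.toRingHom, ?_, ?_, ?_, ?_, ?_⟩
  · -- the epimorphism
    let ρ₁ : R →+* R' ⊗[k'] N' := (Algebra.TensorProduct.includeLeftRingHom).comp
      ((algebraMap (k' ⊗[k] R) R').comp (Algebra.TensorProduct.includeRight : R →ₐ[k] k' ⊗[k] R).toRingHom)
    let ρ₂ : N →+* R' ⊗[k'] N' :=
      (Algebra.TensorProduct.includeRight : N' →ₐ[k'] R' ⊗[k'] N').toRingHom.comp (algebraMap N N')
    have e1 : ∀ r, ρ₁ r = algebraMap (k' ⊗[k] R) R' (1 ⊗ₜ r) ⊗ₜ 1 := fun _ => rfl
    have e2 : ∀ n, ρ₂ n = 1 ⊗ₜ algebraMap N N' n := fun _ => rfl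
    let _ : Algebra k (R' ⊗[k'] N') := (ρ₂.comp (algebraMap k N)).toAlgebra
    have ek : ∀ a, algebraMap k (R' ⊗[k'] N') a = ρ₂ (algebraMap k N a) := fun _ => rfl
    have key : ∀ a : k', (algebraMap (k' ⊗[k] R) R' (a ⊗ₜ 1) ⊗ₜ[k'] (1 : N') : R' ⊗[k'] N') =
        1 ⊗ₜ algebraMap N N' (algebraMap k' N a) := fun a => by
      rw [← IsScalarTower.algebraMap_apply k' N N', Algebra.algebraMap_eq_smul_one (A := N'),
        ← TensorProduct.smul_tmul, ← Algebra.algebraMap_eq_smul_one (A := R'),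
        IsScalarTower.algebraMap_apply k' (k' ⊗[k] R) R']
      rfl
    have c1 : ∀ a, ρ₁ (algebraMap k R a) = algebraMap k (R' ⊗[k'] N') a := fun a => by
      rw [ek, e1, e2, IsScalarTower.algebraMap_apply k k' N, ← key]
      congr 2
      rw [Algebra.algebraMap_eq_smul_one, Algebra.algebraMap_eq_smul_one, TensorProduct.smul_tmul]
    let ρ₁' : R →ₐ[k] R' ⊗[k'] N' := AlgHom.mk ρ₁ c1
    let ρ₂' : N →ₐ[k] R' ⊗[k'] N' := AlgHom.mk ρ₂ (fun _ => rfl)
    let ρ : R ⊗[k] N →ₐ[k] R' ⊗[k'] N' := Algebra.TensorProduct.lift ρ₁' ρ₂' (fun _ _ => mul_comm _ _)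
    have hρ : ∀ r n, ρ (r ⊗ₜ n) = ρ₁ r * ρ₂ n := fun r n =>
      Algebra.TensorProduct.lift_tmul ρ₁' ρ₂' (fun _ _ => mul_comm _ _) r n
    have hρ1 : ∀ r, ρ (r ⊗ₜ 1) = ρ₁ r := fun r => by rw [hρ, map_one, mul_one]
    have hρ2 : ∀ r, ρ (1 ⊗ₜ r) = ρ₂ r := fun r => by rw [hρ, map_one, one_mul]
    refine Good.of_epi (φ := ρ.toRingHom) ?_ ?_
    · have : φ₂.toRingHom.comp ρ.toRingHom = ψ := by
        apply RingHom.ext
        intro x
        change φ₂ (ρ x) = ψ x
        induction x with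
        | zero => simp
        | add x y hx hy => rw [map_add, map_add, hx, hy, map_add]
        | tmul r n =>
          rw [hρ, map_mul, e1, e2, h2l, h2r, hfR, hfN, left_tmul, right_apply, map_one, ← map_mul,
            Algebra.TensorProduct.tmul_mul_tmul, mul_one, one_mul]
      rw [this]
      exact hψ
    · intro T _ f g hfg
      have hfg' : ∀ x, f (ρ x) = g (ρ x) := fun x => RingHom.congr_fun hfg x
      have hN : f.comp (Algebra.TensorProduct.includeRight : N' →ₐ[k'] R' ⊗[k'] N').toRingHom =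
          g.comp (Algebra.TensorProduct.includeRight : N' →ₐ[k'] R' ⊗[k'] N').toRingHom := by
        apply IsLocalization.ringHom_ext P₂.primeCompl
        apply RingHom.ext
        intro n
        have := hfg' (1 ⊗ₜ n)
        rw [hρ2] at this
        exact this
      have hR : f.comp (Algebra.TensorProduct.includeLeftRingHom : R' →+* R' ⊗[k'] N') =
          g.comp (Algebra.TensorProduct.includeLeftRingHom : R' →+* R' ⊗[k'] N') := by
        apply IsLocalization.ringHom_ext P₁.primeCompl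
        apply RingHom.ext
        intro x
        change f (algebraMap (k' ⊗[k] R) R' x ⊗ₜ 1) = g (algebraMap (k' ⊗[k] R) R' x ⊗ₜ 1)
        induction x with
        | zero => rw [map_zero, TensorProduct.zero_tmul, map_zero, map_zero]
        | add x y hx hy => rw [map_add, TensorProduct.add_tmul, map_add, map_add, hx, hy]
        | tmul a r =>
          have h3 : (algebraMap (k' ⊗[k] R) R' (a ⊗ₜ r) ⊗ₜ[k'] (1 : N') : R' ⊗[k'] N') =
              ρ (1 ⊗ₜ algebraMap k' N a) * ρ (r ⊗ₜ 1) := by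
            rw [hρ1, hρ2, e1, e2, ← key, Algebra.TensorProduct.tmul_mul_tmul, ← map_mul,
              Algebra.TensorProduct.tmul_mul_tmul, mul_one, one_mul, mul_one]
          rw [h3, map_mul, map_mul, hfg', hfg']
      apply RingHom.ext
      intro x
      induction x with
      | zero => simp
      | add x y hx hy => rw [map_add, map_add, hx, hy]
      | tmul r n =>
        have h4 : (r ⊗ₜ[k'] n : R' ⊗[k'] N') = (r ⊗ₜ 1) * (1 ⊗ₜ n) := by
          rw [Algebra.TensorProduct.tmul_mul_tmul, mul_one, one_mul]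
        rw [h4, map_mul, map_mul]
        exact congr_arg₂ _ (RingHom.congr_fun hR r) (RingHom.congr_fun hN n)
  · refine ⟨fun r hr => ?_⟩
    have hr' : IsUnit (fR r) := by rw [← h2l]; exact hr
    obtain ⟨x, s, rfl⟩ := IsLocalization.exists_mk'_eq P₁.primeCompl r
    rw [IsLocalization.lift_mk', Units.isUnit_mul_units] at hr'
    exact (IsLocalization.AtPrime.isUnit_mk'_iff R' P₁ x s).2 ((m1 x).2 hr')
  · refine ⟨fun r hr => ?_⟩
    have hr' : IsUnit (fN r) := by rw [← h2r]; exact hr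
    obtain ⟨x, s, rfl⟩ := IsLocalization.exists_mk'_eq P₂.primeCompl r
    rw [IsLocalization.lift_mk', Units.isUnit_mul_units] at hr'
    exact (IsLocalization.AtPrime.isUnit_mk'_iff N' P₂ x s).2 ((m2 x).2 hr')
  · intro x
    change φ₂ _ = _
    rw [h2l, hfR]
  · intro x
    change φ₂ _ = _
    rw [h2r, hfN]
    rfl

end Loc

end K588.QGood
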