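import Groth.Agent.CalgC.IndEtale
import Groth.Agent.ParaF.K588.QGood
import Mathlib.RingTheory.Unramified.LocalStructure

/-!
Ind-étale algebras: epimorphisms of the base, fibres; products `R ⊗ C` of two algebras over a field: localization in
the first variable together with a change of the ground field.
-/

set_option autoImplicit false
universe u

open TensorProduct

namespace K588.IndEpi

open Groth.Agent.CalgC.IndEtale K588.QGood

theorem isInd_of_epi {Q : ∀ (A E : Type u) [CommRing A] [CommRing E] [Algebra A E], Prop} (hQ : IsGood Q)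
    {A B S : Type u} [CommRing A] [CommRing B] [CommRing S] [Algebra A B]
    [Algebra B S] [Algebra A S] [IsScalarTower A B S]
    (hepi : ∀ (T : Type u) [CommRing T] (f g : B →+* T),
      f.comp (algebraMap A B) = g.comp (algebraMap A B) → f = g)
    (h : IsInd Q A S) : IsInd Q B S := by
  have h1 : IsInd Q B (B ⊗[A] S) := IsInd.baseChange hQ h B
  let m : B ⊗[A] S →ₐ[B] S :=
    Algebra.TensorProduct.lift (Algebra.ofId B S) (AlgHom.id A S) fun _ _ => Commute.all _ _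
  have hm : ∀ x s, m (x ⊗ₜ s) = algebraMap B S x * s := fun x s => rfl
  have key : ∀ x : B, (x ⊗ₜ[A] (1 : S) : B ⊗[A] S) = 1 ⊗ₜ algebraMap B S x := by
    intro x
    refine RingHom.congr_fun (hepi (B ⊗[A] S) (Algebra.TensorProduct.includeLeftRingHom)
      ((Algebra.TensorProduct.includeRight : S →ₐ[A] B ⊗[A] S).toRingHom.comp (algebraMap B S)) ?_) x
    apply RingHom.ext
    intro a
    change (algebraMap A B a ⊗ₜ[A] (1 : S) : B ⊗[A] S) = 1 ⊗ₜ algebraMap B S (algebraMap A B a)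
    rw [← IsScalarTower.algebraMap_apply A B S]
    exact Algebra.TensorProduct.tmul_one_eq_one_tmul a
  have hinv : ∀ z : B ⊗[A] S, (1 : B) ⊗ₜ[A] m z = z := by
    intro z
    induction z with
    | zero => rw [map_zero, TensorProduct.tmul_zero]
    | add x y hx hy => rw [map_add, TensorProduct.tmul_add, hx, hy]
    | tmul x s =>
      have h2 : (x ⊗ₜ[A] s : B ⊗[A] S) = (x ⊗ₜ 1) * (1 ⊗ₜ s) := by
        rw [Algebra.TensorProduct.tmul_mul_tmul, mul_one, one_mul]
      rw [hm, h2, key, Algebra.TensorProduct.tmul_mul_tmul, mul_one]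
  have hb : Function.Bijective m :=
    ⟨fun x y hxy => by rw [← hinv x, ← hinv y, hxy], fun s => ⟨1 ⊗ₜ s, by rw [hm, map_one, one_mul]⟩⟩
  exact IsIndP.of_algEquiv h1 (AlgEquiv.ofBijective m hb)

theorem eq_of_le {A S : Type u} [CommRing A] [CommRing S] [Algebra A S] (h : IsIndEtale A S)
    (P P' : Ideal S) [P.IsPrime] [P'.IsPrime] (hle : P ≤ P')
    (hc : P.comap (algebraMap A S) = P'.comap (algebraMap A S)) : P = P' := by
  refine le_antisymm hle fun b hb => ?_
  obtain ⟨E, _, _, hE, ψ, χ, hχ⟩ := h (Polynomial A) (Polynomial.aeval b)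
  have h0 : ∀ I : Ideal S, (I.comap χ).comap (algebraMap A E) = I.comap (algebraMap A S) := fun I => by
    ext x
    rw [Ideal.mem_comap, Ideal.mem_comap, Ideal.mem_comap, AlgHom.commutes]
  have h1 : P.comap χ = P'.comap χ := by
    refine Algebra.QuasiFinite.eq_of_le_of_under_eq (R := A) (P.comap χ) (P'.comap χ)
      (Ideal.comap_mono hle) ?_
    rw [Ideal.under_def, Ideal.under_def, h0, h0]
    exact hc
  have h2 : χ (ψ Polynomial.X) = b := by
    rw [← AlgHom.comp_apply, hχ, Polynomial.aeval_X]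
  have h3 : ψ Polynomial.X ∈ P'.comap χ := by
    rw [Ideal.mem_comap, h2]; exact hb
  rw [← h1, Ideal.mem_comap, h2] at h3
  exact h3

section Loc

variable (k k' R C E : Type u) [Field k] [Field k'] [CommRing R] [CommRing C]
  [CommRing E] [Algebra k k'] [Algebra k R] [Algebra k C] [Algebra k' C]
  [IsScalarTower k k' C] [IsLocalRing E]

/-- localization in the first variable, together with the change of the ground field. -/
theorem exists_loc_epi (ψ : R ⊗[k] C →+* E) (R' : Type u) [CommRing R'] [IsLocalRing R']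
    [Algebra (k' ⊗[k] R) R'] [Algebra k' R'] [IsScalarTower k' (k' ⊗[k] R) R']
    (P₁ : Ideal (k' ⊗[k] R)) [P₁.IsPrime] [IsLocalization.AtPrime R' P₁]
    (hP₁ : P₁ = (IsLocalRing.maximalIdeal E).comap (left k k' R C E ψ)) :
    ∃ (φ₂ : R' ⊗[k'] C →+* E) (ρ : R ⊗[k] C →+* R' ⊗[k'] C), φ₂.comp ρ = ψ ∧
      (∀ (T : Type u) [CommRing T] (f g : R' ⊗[k'] C →+* T), f.comp ρ = g.comp ρ → f = g) ∧
      IsLocalHom (φ₂.comp (Algebra.TensorProduct.includeLeftRingHom)) ∧
      (∀ x, φ₂ (algebraMap (k' ⊗[k] R) R' x ⊗ₜ 1) = left k k' R C E ψ x) ∧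
      ∀ x, φ₂ (1 ⊗ₜ x) = ψ (1 ⊗ₜ x) := by
  have m1 : ∀ y, y ∉ P₁ ↔ IsUnit (left k k' R C E ψ y) := fun y => by
    rw [hP₁, Ideal.mem_comap, IsLocalRing.mem_maximalIdeal, mem_nonunits_iff, not_not]
  have u1 : ∀ y : P₁.primeCompl, IsUnit (left k k' R C E ψ y) := fun y => (m1 y).1 y.2
  let fR : R' →+* E := IsLocalization.lift (M := P₁.primeCompl) (g := left k k' R C E ψ) u1
  let fN : C →+* E := right k R C E ψ
  have hfR : ∀ x, fR (algebraMap _ _ x) = left k k' R C E ψ x := fun x => IsLocalization.lift_eq u1 x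
  let _ : Algebra k' E := ((right k R C E ψ).comp (algebraMap k' C)).toAlgebra
  have hk' : ∀ a, algebraMap k' E a = ψ (1 ⊗ₜ algebraMap k' C a) := fun _ => rfl
  have cR : ∀ a, fR (algebraMap k' R' a) = algebraMap k' E a := fun a => by
    rw [IsScalarTower.algebraMap_apply k' (k' ⊗[k] R) R', hfR, hk',
      Algebra.TensorProduct.algebraMap_apply, left_tmul]
    rfl
  have cN : ∀ a, fN (algebraMap k' C a) = algebraMap k' E a := fun a => rfl
  let fR' : R' →ₐ[k'] E := AlgHom.mk fR cR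
  let fN' : C →ₐ[k'] E := AlgHom.mk fN cN
  let φ₂ : R' ⊗[k'] C →ₐ[k'] E := Algebra.TensorProduct.lift fR' fN' (fun _ _ => mul_comm _ _)
  have h2 : ∀ r n, φ₂ (r ⊗ₜ n) = fR r * fN n := fun r n =>
    Algebra.TensorProduct.lift_tmul fR' fN' (fun _ _ => mul_comm _ _) r n
  have h2l : ∀ r, φ₂ (r ⊗ₜ 1) = fR r := fun r => by rw [h2, map_one, mul_one]
  have h2r : ∀ n, φ₂ (1 ⊗ₜ n) = fN n := fun n => by rw [h2, map_one, one_mul]
  let ρ₁ : R →+* R' ⊗[k'] C := (Algebra.TensorProduct.includeLeftRingHom).comp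
    ((algebraMap (k' ⊗[k] R) R').comp (Algebra.TensorProduct.includeRight : R →ₐ[k] k' ⊗[k] R).toRingHom)
  let ρ₂ : C →+* R' ⊗[k'] C :=
    (Algebra.TensorProduct.includeRight : C →ₐ[k'] R' ⊗[k'] C).toRingHom
  have e1 : ∀ r, ρ₁ r = algebraMap (k' ⊗[k] R) R' (1 ⊗ₜ r) ⊗ₜ 1 := fun _ => rfl
  have e2 : ∀ n, ρ₂ n = 1 ⊗ₜ n := fun _ => rfl
  let _ : Algebra k (R' ⊗[k'] C) := (ρ₂.comp (algebraMap k C)).toAlgebra
  have ek : ∀ a, algebraMap k (R' ⊗[k'] C) a = ρ₂ (algebraMap k C a) := fun _ => rfl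
  have key : ∀ a : k', (algebraMap (k' ⊗[k] R) R' (a ⊗ₜ 1) ⊗ₜ[k'] (1 : C) : R' ⊗[k'] C) =
      1 ⊗ₜ algebraMap k' C a := fun a => by
    rw [Algebra.algebraMap_eq_smul_one (A := C),
      ← TensorProduct.smul_tmul, ← Algebra.algebraMap_eq_smul_one (A := R'),
      IsScalarTower.algebraMap_apply k' (k' ⊗[k] R) R']
    rfl
  have c1 : ∀ a, ρ₁ (algebraMap k R a) = algebraMap k (R' ⊗[k'] C) a := fun a => by
    rw [ek, e1, e2, IsScalarTower.algebraMap_apply k k' C, ← key]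
    congr 2
    rw [Algebra.algebraMap_eq_smul_one, Algebra.algebraMap_eq_smul_one, TensorProduct.smul_tmul]
  let ρ₁' : R →ₐ[k] R' ⊗[k'] C := AlgHom.mk ρ₁ c1
  let ρ₂' : C →ₐ[k] R' ⊗[k'] C := AlgHom.mk ρ₂ (fun _ => rfl)
  let ρ : R ⊗[k] C →ₐ[k] R' ⊗[k'] C := Algebra.TensorProduct.lift ρ₁' ρ₂' (fun _ _ => mul_comm _ _)
  have hρ : ∀ r n, ρ (r ⊗ₜ n) = ρ₁ r * ρ₂ n := fun r n =>
    Algebra.TensorProduct.lift_tmul ρ₁' ρ₂' (fun _ _ => mul_comm _ _) r n
  have hρ1 : ∀ r, ρ (r ⊗ₜ 1) = ρ₁ r := fun r => by rw [hρ, map_one, mul_one]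
  have hρ2 : ∀ r, ρ (1 ⊗ₜ r) = ρ₂ r := fun r => by rw [hρ, map_one, one_mul]
  refine ⟨φ₂.toRingHom, ρ.toRingHom, ?_, ?_, ?_, ?_, ?_⟩
  · apply RingHom.ext
    intro x
    change φ₂ (ρ x) = ψ x
    induction x with
    | zero => simp
    | add x y hx hy => rw [map_add, map_add, hx, hy, map_add]
    | tmul r n =>
      rw [hρ, map_mul, e1, e2, h2l, h2r, hfR, left_tmul, map_one]
      change _ * ψ (1 ⊗ₜ n) = _
      rw [← map_mul, Algebra.TensorProduct.tmul_mul_tmul, mul_one, one_mul]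
  · intro T _ f g hfg
    have hfg' : ∀ x, f (ρ x) = g (ρ x) := fun x => RingHom.congr_fun hfg x
    have hN : ∀ n, f (1 ⊗ₜ n) = g (1 ⊗ₜ n) := fun n => by
      have := hfg' (1 ⊗ₜ n)
      rw [hρ2] at this
      exact this
    have hR : f.comp (Algebra.TensorProduct.includeLeftRingHom : R' →+* R' ⊗[k'] C) =
        g.comp (Algebra.TensorProduct.includeLeftRingHom : R' →+* R' ⊗[k'] C) := by
      apply IsLocalization.ringHom_ext P₁.primeCompl
      apply RingHom.ext
      intro x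
      change f (algebraMap (k' ⊗[k] R) R' x ⊗ₜ 1) = g (algebraMap (k' ⊗[k] R) R' x ⊗ₜ 1)
      induction x with
      | zero => rw [map_zero, TensorProduct.zero_tmul, map_zero, map_zero]
      | add x y hx hy => rw [map_add, TensorProduct.add_tmul, map_add, map_add, hx, hy]
      | tmul a r =>
        have h3 : (algebraMap (k' ⊗[k] R) R' (a ⊗ₜ r) ⊗ₜ[k'] (1 : C) : R' ⊗[k'] C) =
            ρ (1 ⊗ₜ algebraMap k' C a) * ρ (r ⊗ₜ 1) := by
          rw [hρ1, hρ2, e1, e2, ← key, Algebra.TensorProduct.tmul_mul_tmul, ← map_mul,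
            Algebra.TensorProduct.tmul_mul_tmul, mul_one, one_mul, mul_one]
        rw [h3, map_mul, map_mul, hfg', hfg']
    apply RingHom.ext
    intro x
    induction x with
    | zero => simp
    | add x y hx hy => rw [map_add, map_add, hx, hy]
    | tmul r n =>
      have h4 : (r ⊗ₜ[k'] n : R' ⊗[k'] C) = (r ⊗ₜ 1) * (1 ⊗ₜ n) := by
        rw [Algebra.TensorProduct.tmul_mul_tmul, mul_one, one_mul]
      rw [h4, map_mul, map_mul]
      exact congr_arg₂ _ (RingHom.congr_fun hR r) (hN n)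
  · refine ⟨fun r hr => ?_⟩
    have hr' : IsUnit (fR r) := by rw [← h2l]; exact hr
    obtain ⟨x, s, rfl⟩ := IsLocalization.exists_mk'_eq P₁.primeCompl r
    rw [IsLocalization.lift_mk', Units.isUnit_mul_units] at hr'
    exact (IsLocalization.AtPrime.isUnit_mk'_iff R' P₁ x s).2 ((m1 x).2 hr')
  · intro x
    change φ₂ _ = _
    rw [h2l, hfR]
  · intro x
    change φ₂ _ = _
    rw [h2r]
    rfl

end Loc

end K588.IndEpi
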