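import Groth.Agent.Sga2.GrLoc
import Mathlib.RingTheory.Smooth.Flat
import Mathlib.RingTheory.Regular.Flat
import Mathlib.RingTheory.TensorProduct.Quotient
import Mathlib.RingTheory.EssentialFiniteness
import Mathlib.RingTheory.Localization.Submodule

/-!
Algebras `E` over a product `D = R ⊗ C` of two algebras over a field: flatness, Noetherianity, regular sequences,
base change in `C`.
-/

set_option autoImplicit false
universe u

open TensorProduct

namespace K588.QBase

open Groth.Agent.Sga2.GrReg

/-- Formally smooth algebras essentially of finite type over a Noetherian ring are flat. -/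
theorem flat_of_formallySmooth (R A : Type*) [CommRing R] [IsNoetherianRing R] [CommRing A]
    [Algebra R A] [Algebra.EssFiniteType R A] [Algebra.FormallySmooth R A] : Module.Flat R A := by
  let C := Algebra.EssFiniteType.subalgebra R A
  let M := Algebra.EssFiniteType.submonoid R A
  have hM : IsLocalization M A := Algebra.EssFiniteType.isLocalization R A
  obtain ⟨n, f, hf⟩ := (Algebra.FiniteType.iff_quotient_mvPolynomial'' (R := R) (S := C)).mp
    inferInstance
  let N : Submonoid (MvPolynomial (Fin n) R) := M.comap f
  let P := Localization N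
  have hflat : Module.Flat (MvPolynomial (Fin n) R) P := IsLocalization.flat P N
  have hflat2 : Module.Flat R P := Module.Flat.trans R (MvPolynomial (Fin n) R) P
  have hnoeth : IsNoetherianRing P := IsLocalization.isNoetherianRing N P inferInstance
  let g : P →ₐ[R] A := IsLocalization.liftAlgHom (M := N)
    (f := (IsScalarTower.toAlgHom R C A).comp f)
    (fun y => IsLocalization.map_units A (⟨f y, y.2⟩ : M))
  refine Algebra.FormallySmooth.flat_of_algHom_of_isNoetherianRing g fun a => ?_
  obtain ⟨⟨c, s⟩, hcs⟩ := IsLocalization.surj M a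
  obtain ⟨c', hc'⟩ := hf c
  obtain ⟨s', hs'⟩ := hf s
  have hs'N : s' ∈ N := by
    change f s' ∈ M
    rw [hs']
    exact s.2
  refine ⟨IsLocalization.mk' P c' ⟨s', hs'N⟩, ?_⟩
  have hu : IsUnit (algebraMap C A s) := IsLocalization.map_units A s
  apply hu.mul_right_cancel
  rw [hcs]
  have h1 : g (algebraMap _ P s') = algebraMap C A s := by
    change IsLocalization.liftAlgHom _ (algebraMap _ P s') = _
    erw [IsLocalization.lift_eq]
    change algebraMap C A (f s') = _
    rw [hs']
  have h2 : g (algebraMap _ P c') = algebraMap C A c := by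
    change IsLocalization.liftAlgHom _ (algebraMap _ P c') = _
    erw [IsLocalization.lift_eq]
    change algebraMap C A (f c') = _
    rw [hc']
  rw [← h1, ← h2, ← map_mul, IsLocalization.mk'_spec' P c' ⟨s', hs'N⟩ |> (mul_comm _ _).trans]

/-- the square `R → S`, `R/I → S/IS` is a pushout. -/
theorem isPushout_quotient (R S : Type*) [CommRing R] [CommRing S] [Algebra R S] (I : Ideal R) :
    Algebra.IsPushout R S (R ⧸ I) (S ⧸ I.map (algebraMap R S)) where
  out := IsBaseChange.of_equiv
    (Algebra.TensorProduct.quotIdealMapEquivTensorQuot S I).symm.toLinearEquiv (by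
      intro x
      obtain ⟨x, rfl⟩ := Ideal.Quotient.mk_surjective x
      change (Algebra.TensorProduct.quotIdealMapEquivTensorQuot S I).symm (1 ⊗ₜ[R] Ideal.Quotient.mk I x) = _
      rw [AlgEquiv.symm_apply_eq]
      change _ = Algebra.TensorProduct.quotIdealMapEquivTensorQuot S I
        (Ideal.Quotient.mk _ (algebraMap R S x))
      rw [Algebra.TensorProduct.quotIdealMapEquivTensorQuot_mk]
      have h : (Ideal.Quotient.mk I x) = x • (1 : R ⧸ I) := by
        rw [← Algebra.algebraMap_eq_smul_one]; rfl
      rw [h, ← TensorProduct.smul_tmul, Algebra.algebraMap_eq_smul_one])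

section Props

variable (A B A₁ B₁ : Type u) [CommRing A] [CommRing B] [CommRing A₁] [CommRing B₁]
  [Algebra A B] [Algebra A A₁] [Algebra A₁ B₁] [Algebra B B₁] [Algebra A B₁]
  [IsScalarTower A B B₁] [IsScalarTower A A₁ B₁] [Algebra.IsPushout A A₁ B B₁]

theorem formallySmooth_of_isPushout [Algebra.FormallySmooth A B] : Algebra.FormallySmooth A₁ B₁ :=
  Algebra.FormallySmooth.of_equiv (Algebra.IsPushout.equiv A A₁ B B₁)

theorem essFiniteType_of_isPushout [Algebra.EssFiniteType A B] : Algebra.EssFiniteType A₁ B₁ :=
  (Algebra.EssFiniteType.iff_of_algEquiv (Algebra.IsPushout.equiv A A₁ B B₁)).1 inferInstance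

theorem flat_of_isPushout [Module.Flat A B] : Module.Flat A₁ B₁ :=
  Module.Flat.of_linearEquiv (Algebra.IsPushout.equiv A A₁ B B₁).symm.toLinearEquiv

end Props

section Reg

variable (k : Type u) [Field k] (R C D : Type u) [CommRing R] [CommRing C] [CommRing D]
  [Algebra k R] [Algebra k C] [Algebra k D] [Algebra R D] [Algebra C D]
  [IsScalarTower k R D] [IsScalarTower k C D] [Algebra.IsPushout k R C D]

include k C in
theorem flat_left : Module.Flat R D := flat_of_isPushout k C R D

include k R in
theorem flat_right : Module.Flat C D :=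
  have : Algebra.IsPushout k C R D := Algebra.IsPushout.symm inferInstance
  flat_of_isPushout k R C D

include k in
theorem flat_quotient (I : Ideal R) : Module.Flat C (D ⧸ I.map (algebraMap R D)) := by
  have h1 : Algebra.IsPushout R (R ⧸ I) D (D ⧸ I.map (algebraMap R D)) :=
    (isPushout_quotient R D I).symm
  have h0 : IsScalarTower k (R ⧸ I) (D ⧸ I.map (algebraMap R D)) := .of_algebraMap_eq fun a => by
    rw [IsScalarTower.algebraMap_apply k R (R ⧸ I),
      ← IsScalarTower.algebraMap_apply R (R ⧸ I) (D ⧸ I.map (algebraMap R D)),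
      IsScalarTower.algebraMap_apply R D (D ⧸ I.map (algebraMap R D)),
      ← IsScalarTower.algebraMap_apply k R D,
      ← IsScalarTower.algebraMap_apply k D (D ⧸ I.map (algebraMap R D))]
  have h2 : Algebra.IsPushout k (R ⧸ I) C (D ⧸ I.map (algebraMap R D)) :=
    (Algebra.IsPushout.comp_iff k R C D (T := R ⧸ I) (T' := D ⧸ I.map (algebraMap R D))).2 h1
  have : Algebra.IsPushout k C (R ⧸ I) (D ⧸ I.map (algebraMap R D)) := h2.symm
  exact flat_of_isPushout k (R ⧸ I) C (D ⧸ I.map (algebraMap R D))

include k in
/-- the product of a weakly regular pair of `R` and a regular element of `C`. -/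
theorem isWeaklyRegular_tensor {x y : R} (hxy : RingTheory.Sequence.IsWeaklyRegular R [x, y]) {t : C}
    (ht : IsSMulRegular C t) : RingTheory.Sequence.IsWeaklyRegular D
      [algebraMap R D x, algebraMap R D y, algebraMap C D t] := by
  have hR : Module.Flat R D := flat_left k R C D
  have h1 : RingTheory.Sequence.IsWeaklyRegular D [algebraMap R D x, algebraMap R D y] :=
    hxy.of_flat (S := D)
  have e : [algebraMap R D x, algebraMap R D y, algebraMap C D t] =
      [algebraMap R D x, algebraMap R D y] ++ [algebraMap C D t] := rfl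
  rw [e, RingTheory.Sequence.isWeaklyRegular_append_iff]
  refine ⟨h1, ?_⟩
  rw [RingTheory.Sequence.isWeaklyRegular_singleton_iff]
  have hI : Ideal.ofList [algebraMap R D x, algebraMap R D y] • (⊤ : Submodule D D) =
      (Ideal.ofList [x, y]).map (algebraMap R D) := by
    rw [smul_eq_mul, Ideal.mul_top, Ideal.map_ofList]
    rfl
  have := flat_quotient k R C D (Ideal.ofList [x, y])
  have h3 : IsSMulRegular (D ⧸ (Ideal.ofList [x, y]).map (algebraMap R D))
      (algebraMap C (D ⧸ (Ideal.ofList [x, y]).map (algebraMap R D)) t) := ht.of_flat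
  rw [hI]
  intro a b hab
  apply h3
  exact hab

include k in
/-- the same for a flat algebra over the product. -/
theorem reg3_of_flat (E : Type u) [CommRing E] [Algebra D E] [Module.Flat D E] {x y : R}
    (hxy : RingTheory.Sequence.IsWeaklyRegular R [x, y]) {t : C} (ht : IsSMulRegular C t) :
    Reg3 E (algebraMap D E (algebraMap R D x)) (algebraMap D E (algebraMap R D y))
      (algebraMap D E (algebraMap C D t)) := by
  rw [reg3_iff]
  exact (isWeaklyRegular_tensor k R C D hxy ht).of_flat (S := E)

end Reg

end K588.QBase
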