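import Groth.Agent.CurvesA.FlatH0
import Groth.Agent.FormalB.FormalLoc
import Groth.Agent.Ega1.QcqsPush
import Groth.Agent.Ega2.QCohLocal

/-!
# `M → g_* g^* M` is the quotient `M → M / J M` for the closed immersion `g` cut out by `J`

* `isModPow_unit`: for `X` over `Spec A`, `J ⊆ A` an ideal, `g : X ×_A Spec (A/J) → X` and `M` quasi-coherent,
  the unit `M → g_* g^* M` exhibits the target as `M / J M`.
-/

set_option autoImplicit false
universe u
open CategoryTheory CategoryTheory.Limits AlgebraicGeometry Opposite TopologicalSpace TensorProduct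

namespace K588.ThickPush

open Groth.Agent.VarietyB.PullSec Groth.Agent.Fdesc.LocGen Groth.Agent.CurvesA Groth.Agent.CurvesA.FlatH0
  Groth.Agent.FormalB Groth.Agent.FormalB.ModPow Groth.Agent.FormalB.ModPowAff

/-- The kernel of the base change map along a surjection. -/
theorem mem_smul_top_of_isBaseChange {A : Type*} {B : Type*} [CommRing A] [CommRing B] [Algebra A B]
    (h : Function.Surjective (algebraMap A B)) {M : Type*} [AddCommGroup M] [Module A M] {N : Type*}
    [AddCommGroup N] [Module A N] [Module B N] [IsScalarTower A B N] (f : M →ₗ[A] N) (hf : IsBaseChange B f)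
    (m : M) (hm : f m = 0) : m ∈ (RingHom.ker (algebraMap A B)) • (⊤ : Submodule A M) := by
  have h1 : (1 : B) ⊗ₜ[A] m = 0 := by
    apply hf.equiv.injective
    rw [map_zero, hf.equiv_tmul, hm, smul_zero]
  have hex : Function.Exact ((RingHom.ker (algebraMap A B)).subtype) (Algebra.linearMap A B) := by
    intro a
    constructor
    · intro ha
      exact ⟨⟨a, ha⟩, rfl⟩
    · rintro ⟨a, rfl⟩
      exact a.2
  have h2 := rTensor_exact M hex h
  obtain ⟨t, ht⟩ := (h2 ((1 : A) ⊗ₜ[A] m)).mp (by
    rw [LinearMap.rTensor_tmul, Algebra.linearMap_apply, map_one]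
    exact h1)
  have h3 : m = TensorProduct.lid A M ((LinearMap.rTensor M (RingHom.ker (algebraMap A B)).subtype) t) := by
    rw [ht]
    simp
  rw [h3]
  clear h3 ht
  induction t using TensorProduct.induction_on with
  | zero => simp
  | add x y hx hy => rw [map_add, map_add]; exact Submodule.add_mem _ hx hy
  | tmul a m' =>
    simp only [LinearMap.rTensor_tmul, TensorProduct.lid_tmul, Submodule.subtype_apply]
    exact Submodule.smul_mem_smul a.2 trivial

theorem surjective_of_isBaseChange {A : Type*} {B : Type*} [CommRing A] [CommRing B] [Algebra A B]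
    (h : Function.Surjective (algebraMap A B)) {M : Type*} [AddCommGroup M] [Module A M] {N : Type*}
    [AddCommGroup N] [Module A N] [Module B N] [IsScalarTower A B N] (f : M →ₗ[A] N) (hf : IsBaseChange B f) :
    Function.Surjective f := by
  intro n
  refine IsBaseChange.inductionOn hf n (motive := fun n => ∃ m, f m = n) ⟨0, map_zero _⟩
    (fun m => ⟨m, rfl⟩) ?_ ?_
  · rintro b _ ⟨m, rfl⟩
    obtain ⟨a, rfl⟩ := h b
    exact ⟨a • m, by rw [map_smul, algebraMap_smul]⟩
  · rintro _ _ ⟨m, rfl⟩ ⟨m', rfl⟩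
    exact ⟨m + m', map_add _ _ _⟩

variable {A : Type u} [CommRing A] {X : Scheme.{u}} [X.Over (Spec (CommRingCat.of A))]

/-- The closed subscheme of `X` cut out by the ideal `J` of the base ring. -/
noncomputable abbrev clo (X : Scheme.{u}) [X.Over (Spec (CommRingCat.of A))] (J : Ideal A) : Scheme.{u} :=
  pullback (X ↘ Spec (CommRingCat.of A)) (Spec.map (CommRingCat.ofHom (Ideal.Quotient.mk J)))

/-- The closed immersion. -/
noncomputable abbrev cloι (X : Scheme.{u}) [X.Over (Spec (CommRingCat.of A))] (J : Ideal A) : clo X J ⟶ X :=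
  pullback.fst (X ↘ Spec (CommRingCat.of A)) (Spec.map (CommRingCat.ofHom (Ideal.Quotient.mk J)))

theorem isModPow_unit (J : Ideal A) (M : X.Modules) (hM : Coh.IsQCoh M) :
    IsModPow J ((Scheme.Modules.pullbackPushforwardAdjunction (cloι X J)).unit.app M) := by
  have hclosed : IsClosedImmersion (Spec.map (CommRingCat.ofHom (Ideal.Quotient.mk J))) :=
    IsClosedImmersion.spec_of_surjective _ Ideal.Quotient.mk_surjective
  have hg : IsClosedImmersion (cloι X J) := inferInstance
  have hN : Coh.IsQCoh ((Scheme.Modules.pushforward (cloι X J)).obj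
      ((Scheme.Modules.pullback (cloι X J)).obj M)) :=
    Groth.Agent.Ega1.QcqsPush.isQCoh_pushforward _ _ (isQCoh_pullback _ M hM)
  refine Groth.Agent.FormalB.FormalLoc.isModPow_of_cover hM hN _ fun x => ?_
  obtain ⟨_, ⟨U, hU, rfl⟩, hxU, -⟩ :=
    X.isBasis_affineOpens.exists_subset_of_mem_open (Set.mem_univ x) isOpen_univ
  refine ⟨U, hxU, hU, ?_⟩
  have H : IsPullback (cloι X J) (pullback.snd _ _) (X ↘ Spec (CommRingCat.of A))
    (Spec.map (CommRingCat.ofHom (Ideal.Quotient.mk J))) := IsPullback.of_hasPullback _ _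
  have hbc := isBaseChange_affine (X ↘ Spec (CommRingCat.of A)) (pullback.snd _ _)
    (Spec.map (CommRingCat.ofHom (Ideal.Quotient.mk J))) (cloι X J) H M hM hU
    (V := (cloι X J) ⁻¹ᵁ U) rfl
  letI i0 := baseAlg (Spec.map (CommRingCat.ofHom (Ideal.Quotient.mk J)))
  letI i1 := modX (X ↘ Spec (CommRingCat.of A)) M U
  letI i2 := modX (pullback.snd (X ↘ Spec (CommRingCat.of A))
    (Spec.map (CommRingCat.ofHom (Ideal.Quotient.mk J))))
    ((Scheme.Modules.pullback (cloι X J)).obj M) ((cloι X J) ⁻¹ᵁ U)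
  letI i3 := modX' (pullback.snd (X ↘ Spec (CommRingCat.of A))
    (Spec.map (CommRingCat.ofHom (Ideal.Quotient.mk J))))
    (Spec.map (CommRingCat.ofHom (Ideal.Quotient.mk J)))
    ((Scheme.Modules.pullback (cloι X J)).obj M) ((cloι X J) ⁻¹ᵁ U)
  haveI i4 := tower' (pullback.snd (X ↘ Spec (CommRingCat.of A))
    (Spec.map (CommRingCat.ofHom (Ideal.Quotient.mk J))))
    (Spec.map (CommRingCat.ofHom (Ideal.Quotient.mk J)))
    ((Scheme.Modules.pullback (cloι X J)).obj M) ((cloι X J) ⁻¹ᵁ U)
  have hsec : ∀ m : Γ(M, U), ((Scheme.Modules.pullbackPushforwardAdjunction (cloι X J)).unit.app M).app U m =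
      sec (cloι X J) M (le_refl ((cloι X J) ⁻¹ᵁ U)) m := fun m =>
    (res_refl ((Scheme.Modules.pullback (cloι X J)).obj M)
      (((Scheme.Modules.pullbackPushforwardAdjunction (cloι X J)).unit.app M).app U m)).symm
  have hsurj : Function.Surjective (algebraMap Γ(Spec (CommRingCat.of A), ⊤)
      Γ(Spec (CommRingCat.of (A ⧸ J)), ⊤)) := by
    intro b
    obtain ⟨c, rfl⟩ := (ConcreteCategory.bijective_of_isIso
      (Scheme.ΓSpecIso (CommRingCat.of (A ⧸ J))).inv).2 b
    obtain ⟨a, rfl⟩ := Ideal.Quotient.mk_surjective c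
    refine ⟨(Scheme.ΓSpecIso (CommRingCat.of A)).inv a, ?_⟩
    have := Scheme.ΓSpecIso_inv_naturality (CommRingCat.ofHom (Ideal.Quotient.mk J))
    exact congr($this a).symm
  have hker : ∀ b : Γ(Spec (CommRingCat.of A), ⊤),
      b ∈ RingHom.ker (algebraMap Γ(Spec (CommRingCat.of A), ⊤) Γ(Spec (CommRingCat.of (A ⧸ J)), ⊤)) ↔
      ∃ a ∈ J, b = (Scheme.ΓSpecIso (CommRingCat.of A)).inv a := by
    intro b
    obtain ⟨a, rfl⟩ := (ConcreteCategory.bijective_of_isIso
      (Scheme.ΓSpecIso (CommRingCat.of A)).inv).2 b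
    have h1 : algebraMap Γ(Spec (CommRingCat.of A), ⊤) Γ(Spec (CommRingCat.of (A ⧸ J)), ⊤)
        ((Scheme.ΓSpecIso (CommRingCat.of A)).inv a) =
        (Scheme.ΓSpecIso (CommRingCat.of (A ⧸ J))).inv (Ideal.Quotient.mk J a) := by
      have := Scheme.ΓSpecIso_inv_naturality (CommRingCat.ofHom (Ideal.Quotient.mk J))
      exact congr($this a).symm
    rw [RingHom.mem_ker, h1]
    have hinj := (ConcreteCategory.bijective_of_isIso
      (Scheme.ΓSpecIso (CommRingCat.of (A ⧸ J))).inv).1
    have hinj' := (ConcreteCategory.bijective_of_isIso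
      (Scheme.ΓSpecIso (CommRingCat.of A)).inv).1
    constructor
    · intro h
      have h2 : Ideal.Quotient.mk J a = 0 := hinj (by rw [h, map_zero])
      exact ⟨a, Ideal.Quotient.eq_zero_iff_mem.mp h2, rfl⟩
    · rintro ⟨a', ha', h⟩
      have h2 := hinj' h
      subst h2
      rw [Ideal.Quotient.eq_zero_iff_mem.mpr ha', map_zero]
  have htoΓ : ∀ (a : A), ((X ↘ Spec (CommRingCat.of A)).appLE ⊤ U (le_pt _ U)
      ((Scheme.ΓSpecIso (CommRingCat.of A)).inv a) : Γ(X, U)) = toΓ A X U a := by
    intro a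
    rfl
  refine ⟨?_, fun m => ?_⟩
  · intro n
    obtain ⟨m, hm⟩ := surjective_of_isBaseChange hsurj _ hbc n
    exact ⟨m, (hsec m).trans hm⟩
  · rw [hsec]
    constructor
    · intro hm
      have h1 := mem_smul_top_of_isBaseChange hsurj _ hbc m hm
      refine Submodule.smul_induction_on h1 ?_ ?_
      · intro b hb n _
        obtain ⟨a, ha, rfl⟩ := (hker b).mp hb
        have h2 : ((Scheme.ΓSpecIso (CommRingCat.of A)).inv a : Γ(Spec (CommRingCat.of A), ⊤)) • n =
            toΓ A X U a • n := by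
          rw [← htoΓ]; rfl
        rw [h2]
        exact Submodule.smul_mem_smul (Ideal.mem_map_of_mem _ ha) trivial
      · intro x y hx hy
        exact add_mem hx hy
    · intro hm
      refine Submodule.smul_induction_on hm ?_ ?_
      · intro b hb n _
        refine Submodule.span_induction (p := fun b _ => sec (cloι X J) M (le_refl ((cloι X J) ⁻¹ᵁ U)) (b • n) = 0)
          ?_ ?_ ?_ ?_ hb
        · rintro _ ⟨a, ha, rfl⟩
          rw [← htoΓ]
          have h3 := sec_base_smul (X ↘ Spec (CommRingCat.of A)) (pullback.snd _ _)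
            (Spec.map (CommRingCat.ofHom (Ideal.Quotient.mk J))) (cloι X J) H.w M
            (le_refl ((cloι X J) ⁻¹ᵁ U)) ((Scheme.ΓSpecIso (CommRingCat.of A)).inv a) n
          rw [h3]
          have h4 := (hker ((Scheme.ΓSpecIso (CommRingCat.of A)).inv a)).mpr ⟨a, ha, rfl⟩
          have h5 : (Spec.map (CommRingCat.ofHom (Ideal.Quotient.mk J))).appTop
            ((Scheme.ΓSpecIso (CommRingCat.of A)).inv a) = 0 := h4
          rw [h5, map_zero, zero_smul]
        · rw [zero_smul, map_zero]
        · intro b b' _ _ hb hb'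
          rw [add_smul, map_add, hb, hb', add_zero]
        · intro c b _ hb
          rw [smul_eq_mul, mul_smul, sec_smul, hb, smul_zero]
      · intro x y hx hy
        rw [map_add, hx, hy]
        exact add_zero _

end K588.ThickPush
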